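import Mathlib.LinearAlgebra.Matrix.NonsingularInverse
import Mathlib.RingTheory.Ideal.Operations

/-!
# G1, node P1 (helper412's list 17956): right invertible matrices and maximal minors
-/

namespace Groth.Agent.ResProp.EF.K15.Minors

open Matrix

variable {T : Type*} [CommRing T] {ρ κ ρ' κ' : Type*} [Fintype ρ] [DecidableEq ρ] [Fintype κ]
  [Fintype ρ'] [DecidableEq ρ'] [Fintype κ']

/-- the maximal minor with columns `I` -/
def mnr (M : Matrix ρ κ T) (I : ρ → κ) : T := (M.submatrix id I).det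

/-- half of Cauchy - Binet: `det (M S) = ∑_I (∏_j S_(I j) j) det M_I` -/
theorem det_mul_eq_sum (M : Matrix ρ κ T) (S : Matrix κ ρ T) :
    (M * S).det = ∑ I : ρ → κ, (∏ j, S (I j) j) * mnr M I := by
  classical
  have h1 : (M * S).det = (detRowAlternating (R := T) (n := ρ)) (fun j => ∑ k, S k j • (fun i => M i k)) := by
    rw [← det_transpose]
    show det _ = det _
    congr 1
    ext j i
    simp [Matrix.mul_apply, Matrix.transpose_apply, mul_comm]
  rw [h1]
  have h2 := (detRowAlternating (R := T) (n := ρ)).toMultilinearMap.map_sum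
    (α := fun _ => κ) (g := fun j k => S k j • (fun i => M i k))
  change (detRowAlternating (R := T) (n := ρ)) (fun j => ∑ k, S k j • (fun i => M i k)) = _ at h2
  rw [h2]
  refine Finset.sum_congr rfl fun I _ => ?_
  have h3 := (detRowAlternating (R := T) (n := ρ)).toMultilinearMap.map_smul_univ
    (fun j => S (I j) j) (fun j => (fun i => M i (I j)))
  rw [h3, smul_eq_mul]
  congr 1
  rw [mnr, ← det_transpose]
  rfl

/-- a right inverse up to the minor `I` -/
theorem exists_mul_eq_mnr (M : Matrix ρ κ T) (I : ρ → κ) :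
    ∃ S : Matrix κ ρ T, M * S = mnr M I • (1 : Matrix ρ ρ T) := by
  classical
  refine ⟨((1 : Matrix κ κ T).submatrix id I) * (M.submatrix id I).adjugate, ?_⟩
  rw [← Matrix.mul_assoc, mnr, ← Matrix.mul_adjugate]
  congr 1
  ext i j
  simp [Matrix.mul_apply, Matrix.one_apply]

/-- **P1**, one matrix -/
theorem exists_rightInv_iff (M : Matrix ρ κ T) :
    (∃ S : Matrix κ ρ T, M * S = 1) ↔ Ideal.span (Set.range (mnr M)) = ⊤ := by
  constructor
  · rintro ⟨S, hS⟩
    rw [Ideal.eq_top_iff_one, ← det_one (n := ρ) (R := T), ← hS, det_mul_eq_sum]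
    exact Submodule.sum_mem _ fun I _ => Ideal.mul_mem_left _ _ (Ideal.subset_span ⟨I, rfl⟩)
  · intro h
    choose S hS using exists_mul_eq_mnr M
    have h1 : (1 : T) ∈ Ideal.span (Set.range (mnr M)) := h ▸ Submodule.mem_top
    obtain ⟨c, hc⟩ := (Ideal.mem_span_range_iff_exists_fun).1 h1
    refine ⟨∑ I, c I • S I, ?_⟩
    rw [Matrix.mul_sum]
    simp_rw [Matrix.mul_smul, hS, smul_smul]
    rw [← Finset.sum_smul, hc, one_smul]

/-- **P1**, two matrices, products of minors -/
theorem exists_rightInv_pair_iff (M : Matrix ρ κ T) (M' : Matrix ρ' κ' T) :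
    ((∃ S : Matrix κ ρ T, M * S = 1) ∧ (∃ S' : Matrix κ' ρ' T, M' * S' = 1)) ↔
      Ideal.span (Set.range fun p : (ρ → κ) × (ρ' → κ') => mnr M p.1 * mnr M' p.2) = ⊤ := by
  have key : Ideal.span (Set.range fun p : (ρ → κ) × (ρ' → κ') => mnr M p.1 * mnr M' p.2) =
      Ideal.span (Set.range (mnr M)) * Ideal.span (Set.range (mnr M')) := by
    rw [Ideal.span_mul_span']
    congr 1
    ext z
    simp [Set.mem_mul]
  rw [exists_rightInv_iff, exists_rightInv_iff, key]
  constructor
  · rintro ⟨h1, h2⟩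
    rw [h1, h2, Ideal.top_mul]
  · intro h
    constructor
    · rw [eq_top_iff, ← h]; exact Ideal.mul_le_left
    · rw [eq_top_iff, ← h]; exact Ideal.mul_le_right

/-- the same on `T`-points: the ideal generated by the products of minors becomes the unit ideal -/
theorem exists_rightInv_pair_map_iff {R : Type*} [CommRing R] (M : Matrix ρ κ R) (M' : Matrix ρ' κ' R)
    (ψ : R →+* T) :
    ((∃ S : Matrix κ ρ T, M.map ψ * S = 1) ∧ (∃ S' : Matrix κ' ρ' T, M'.map ψ * S' = 1)) ↔
      (Ideal.span (Set.range fun p : (ρ → κ) × (ρ' → κ') => mnr M p.1 * mnr M' p.2)).map ψ = ⊤ := by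
  rw [exists_rightInv_pair_iff, Ideal.map_span, ← Set.range_comp]
  have : (fun p : (ρ → κ) × (ρ' → κ') => mnr (M.map ψ) p.1 * mnr (M'.map ψ) p.2) =
      (ψ ∘ fun p : (ρ → κ) × (ρ' → κ') => mnr M p.1 * mnr M' p.2) := by
    funext p
    have h1 : mnr (M.map ψ) p.1 = ψ (mnr M p.1) := by
      rw [mnr, mnr, RingHom.map_det]; rfl
    have h2 : mnr (M'.map ψ) p.2 = ψ (mnr M' p.2) := by
      rw [mnr, mnr, RingHom.map_det]; rfl
    simp [h1, h2]
  rw [this]

omit [Fintype κ] in
theorem mnr_map {R : Type*} [CommRing R] (M : Matrix ρ κ R) (ψ : R →+* T) (I : ρ → κ) :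
    mnr (M.map ψ) I = ψ (mnr M I) := by
  rw [mnr, mnr, RingHom.map_det]; rfl

omit [Fintype κ] in
theorem mnr_mul (X : Matrix ρ ρ T) (M : Matrix ρ κ T) (I : ρ → κ) :
    mnr (X * M) I = X.det * mnr M I := by
  rw [mnr, mnr, ← det_mul]
  congr 1

end Groth.Agent.ResProp.EF.K15.Minors
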